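import Mathlib

/-!
# The arithmetic at the end of the order computation
-/

set_option autoImplicit false

namespace Cfsg.Agent.Lib.Helper98.D8

theorem abs_bound (A : ℤ) (h : 3 ≤ A ∨ A ≤ -5) : 4 * |A| ≤ 5 * |1 + A| := by
  rcases abs_cases A with ⟨h1, _⟩ | ⟨h1, _⟩ <;> rcases abs_cases (1 + A) with ⟨h2, _⟩ | ⟨h2, _⟩ <;>
    rw [h1, h2] <;> omega

theorem arith_core (N A B C : ℤ) (hA : A % 8 = 1) (hB : B % 8 = 3) (hC : C % 8 = 3) (hA1 : A ≠ 1)
    (hs : 1 + A + B + C = 0)
    (hN : N * (A * B * C + B * C + A * C + A * B) = 256 * (A * B * C))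
    (hge : 1 + A ^ 2 + B ^ 2 + C ^ 2 ≤ N) : N = 168 ∨ N = 360 := by
  have hP : A * B * C + B * C + A * C + A * B = (1 + A) * (1 + B) * (1 + C) := by
    have : C = -1 - A - B := by linarith
    subst this; ring
  rw [hP] at hN
  have hNpos : 0 < N := by nlinarith [sq_nonneg A, sq_nonneg B, sq_nonneg C]
  have a1 := abs_bound A (by omega)
  have a2 := abs_bound B (by omega)
  have a3 := abs_bound C (by omega)
  have hP0 : 0 < |1 + A| * |1 + B| * |1 + C| := by
    have e1 : 0 < |1 + A| := abs_pos.2 (by omega)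
    have e2 : 0 < |1 + B| := abs_pos.2 (by omega)
    have e3 : 0 < |1 + C| := abs_pos.2 (by omega)
    positivity
  have hprod : 64 * (|A| * |B| * |C|) ≤ 125 * (|1 + A| * |1 + B| * |1 + C|) := by
    have m1 : (4 * |A|) * (4 * |B|) ≤ (5 * |1 + A|) * (5 * |1 + B|) :=
      mul_le_mul a1 a2 (by positivity) (by positivity)
    have m2 : (4 * |A|) * (4 * |B|) * (4 * |C|) ≤ (5 * |1 + A|) * (5 * |1 + B|) * (5 * |1 + C|) :=
      mul_le_mul m1 a3 (by positivity) (by positivity)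
    nlinarith [m2]
  have habs : N * (|1 + A| * |1 + B| * |1 + C|) = 256 * (|A| * |B| * |C|) := by
    have := congrArg abs hN
    rw [abs_mul, abs_mul, abs_mul, abs_mul, abs_mul, abs_mul, abs_of_pos hNpos] at this
    simpa using this
  have hN500 : N ≤ 500 := by
    by_contra hcon
    push Not at hcon
    nlinarith [hprod, habs, hP0]
  have bA : A ^ 2 ≤ 499 := by nlinarith [sq_nonneg B, sq_nonneg C]
  have bB : B ^ 2 ≤ 499 := by nlinarith [sq_nonneg A, sq_nonneg C]
  have bA1 : -22 ≤ A ∧ A ≤ 22 := by constructor <;> nlinarith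
  have bB1 : -22 ≤ B ∧ B ≤ 22 := by constructor <;> nlinarith
  have cA : A = -15 ∨ A = -7 ∨ A = 9 ∨ A = 17 := by omega
  have cB : B = -21 ∨ B = -13 ∨ B = -5 ∨ B = 3 ∨ B = 11 ∨ B = 19 := by omega
  have hCe : C = -1 - A - B := by linarith
  subst hCe
  rcases cA with rfl | rfl | rfl | rfl <;> rcases cB with rfl | rfl | rfl | rfl | rfl | rfl <;>
    norm_num at hN hge ⊢ <;> omega

theorem arith_sym (N : ℤ) (A B C wA wB wC : ℤ)
    (hwA : wA = 1 ∨ wA = -1) (hwB : wB = 1 ∨ wB = -1) (hwC : wC = 1 ∨ wC = -1)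
    (hw : 1 + wA + wB + wC = 0)
    (hA : (8 : ℤ) ∣ A + wA - 2) (hB : (8 : ℤ) ∣ B + wB - 2) (hC : (8 : ℤ) ∣ C + wC - 2)
    (hA1 : A ≠ 1) (hB1 : B ≠ 1) (hC1 : C ≠ 1)
    (hs : 1 + A + B + C = 0)
    (hN : N * (A * B * C + B * C + A * C + A * B) = 256 * (A * B * C))
    (hge : 1 + A ^ 2 + B ^ 2 + C ^ 2 ≤ N) : N = 168 ∨ N = 360 := by
  rcases hwA with rfl | rfl <;> rcases hwB with rfl | rfl <;> rcases hwC with rfl | rfl <;>
    first
    | (exfalso; omega)
    | exact arith_core N A B C (by omega) (by omega) (by omega) hA1 hs hN hge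
    | exact arith_core N B A C (by omega) (by omega) (by omega) hB1 (by linarith)
        (by linarith [hN, mul_comm A B]) (by linarith)
    | exact arith_core N C A B (by omega) (by omega) (by omega) hC1 (by linarith)
        (by nlinarith [hN]) (by linarith)

end Cfsg.Agent.Lib.Helper98.D8
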