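import Cfsg.Agent.Lib.Helper98.D8.Char
import Cfsg.Agent.Lib.Helper98.D8.Arith
import Cfsg.Agent.Lib.Helper82.StructConst
import Cfsg.Agent.Lib.Helper82.Ortho
import Cfsg.Agent.Lib.Helper82.Linear

/-!
# A perfect group with an involution whose centralizer is dihedral of order 8 has order 168 or 360
-/

set_option autoImplicit false

namespace Cfsg.Agent.Lib.Helper98.D8

open DihedralGroup Cfsg Cfsg.Agent.Lib.Helper82
open scoped ComplexConjugate

variable {G : Type*} [Group G] {t : G}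

theorem no_index_two (hperf : commutator G = ⊤) (M : Subgroup G) (hM : M.Normal) : M.index ≠ 2 := by
  intro h
  have hc : Nat.card (G ⧸ M) = 2 := h
  have : Fact (Nat.Prime 2) := ⟨Nat.prime_two⟩
  have hcyc : IsCyclic (G ⧸ M) := isCyclic_of_prime_card hc
  have hcomm : IsMulCommutative (G ⧸ M) := hcyc.isMulCommutative
  have hle := Subgroup.Normal.quotient_commutative_iff_commutator_le.1 hcomm
  rw [hperf, top_le_iff] at hle
  rw [hle, Subgroup.index_top] at h
  norm_num at h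

theorem four_sum {ι R : Type*} [Fintype ι] [DecidableEq ι] [AddCommMonoid R] {τ a b c : ι}
    (h1 : τ ≠ a) (h2 : τ ≠ b) (h3 : τ ≠ c) (h4 : a ≠ b) (h5 : a ≠ c) (h6 : b ≠ c)
    (F : ι → R) (hF : ∀ i, i ≠ τ → i ≠ a → i ≠ b → i ≠ c → F i = 0) :
    ∑ i, F i = F τ + F a + F b + F c := by
  have hs : ∑ i ∈ ({τ, a, b, c} : Finset ι), F i = ∑ i, F i := by
    apply Finset.sum_subset (Finset.subset_univ _)
    intro i _ hi
    simp only [Finset.mem_insert, Finset.mem_singleton, not_or] at hi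
    exact hF i hi.1 hi.2.1 hi.2.2.1 hi.2.2.2
  rw [← hs, Finset.sum_insert (by simp [h1, h2, h3]), Finset.sum_insert (by simp [h4, h5]),
    Finset.sum_insert (by simp [h6]), Finset.sum_singleton]
  simp only [add_assoc]

theorem four_le {ι : Type*} [Fintype ι] [DecidableEq ι] {τ a b c : ι}
    (h1 : τ ≠ a) (h2 : τ ≠ b) (h3 : τ ≠ c) (h4 : a ≠ b) (h5 : a ≠ c) (h6 : b ≠ c)
    (F : ι → ℤ) (hF : ∀ i, 0 ≤ F i) :
    F τ + F a + F b + F c ≤ ∑ i, F i := by
  have hs : ∑ i ∈ ({τ, a, b, c} : Finset ι), F i ≤ ∑ i, F i :=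
    Finset.sum_le_sum_of_subset_of_nonneg (Finset.subset_univ _) (fun i _ _ => hF i)
  rw [Finset.sum_insert (by simp [h1, h2, h3]), Finset.sum_insert (by simp [h4, h5]),
    Finset.sum_insert (by simp [h6]), Finset.sum_singleton] at hs
  linarith

/-- Extraction of the three other characters. -/
theorem exists_three {ι : Type*} [Fintype ι] [DecidableEq ι] (y : ι → ℤ) (τ : ι) (hτ : y τ = 1)
    (hs : ∑ i, y i * y i = 4) :
    ∃ a b c : ι, τ ≠ a ∧ τ ≠ b ∧ τ ≠ c ∧ a ≠ b ∧ a ≠ c ∧ b ≠ c ∧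
      (y a = 1 ∨ y a = -1) ∧ (y b = 1 ∨ y b = -1) ∧ (y c = 1 ∨ y c = -1) ∧
      ∀ i, i ≠ τ → i ≠ a → i ≠ b → i ≠ c → y i = 0 := by
  set S : Finset ι := (Finset.univ.erase τ).filter (fun i => y i ≠ 0) with hS
  have h1 : ∑ i ∈ Finset.univ.erase τ, y i * y i = 3 := by
    have := Finset.add_sum_erase Finset.univ (fun i => y i * y i) (Finset.mem_univ τ)
    simp only [hτ] at this
    linarith
  have h2 : ∑ i ∈ S, y i * y i = 3 := by
    rw [← h1, hS]
    apply Finset.sum_filter_of_ne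
    intro i _ hi h0
    apply hi
    rw [h0, mul_zero]
  have h3 : ∀ i ∈ S, y i = 1 ∨ y i = -1 := by
    intro i hi
    have h4 : y i * y i ≤ 3 := by
      rw [← h2]
      exact Finset.single_le_sum (f := fun i => y i * y i) (fun j _ => mul_self_nonneg _) hi
    have h5 : y i ≠ 0 := (Finset.mem_filter.1 hi).2
    have h6 : -1 ≤ y i ∧ y i ≤ 1 := by constructor <;> nlinarith
    omega
  have h4 : S.card = 3 := by
    have h5 : ∑ i ∈ S, y i * y i = ∑ i ∈ S, (1 : ℤ) := by
      apply Finset.sum_congr rfl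
      intro i hi
      rcases h3 i hi with h | h <;> rw [h] <;> norm_num
    rw [h2] at h5
    simp at h5
    exact_mod_cast h5.symm
  obtain ⟨a, b, c, hab, hac, hbc, hSe⟩ := Finset.card_eq_three.1 h4
  have ha : a ∈ S := by rw [hSe]; simp
  have hb : b ∈ S := by rw [hSe]; simp
  have hc : c ∈ S := by rw [hSe]; simp
  have hne : ∀ i ∈ S, τ ≠ i := by
    intro i hi
    exact (Finset.ne_of_mem_erase (Finset.mem_filter.1 hi).1).symm
  refine ⟨a, b, c, hne a ha, hne b hb, hne c hc, hab, hac, hbc, h3 a ha, h3 b hb, h3 c hc, ?_⟩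
  intro i h1 h2 h3 h4
  by_contra h0
  have : i ∈ S := Finset.mem_filter.2 ⟨Finset.mem_erase.2 ⟨h1, Finset.mem_univ _⟩, h0⟩
  rw [hSe] at this
  simp only [Finset.mem_insert, Finset.mem_singleton] at this
  tauto

theorem per_char (d x y : ℤ) (n₁ n₂ : ℕ) (hx : x = d - 4 * n₁) (hy : y = d - 2 * n₁ - 4 * n₂)
    (hy1 : y = 1 ∨ y = -1) (hxb : x * x ≤ 7) (hd : 0 < d) (hd1 : d ≠ 1) :
    (y * x = 1 ∨ y * x = -1) ∧ (8 : ℤ) ∣ y * d + y * x - 2 ∧ y * d ≠ 1 ∧
      ((x : ℂ) * x * y / d = 1 / ((y * d : ℤ) : ℂ)) ∧ (y * d) ^ 2 = d * d ∧ y * d ≠ 0 := by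
  have hx2 : -2 ≤ x ∧ x ≤ 2 := by constructor <;> nlinarith
  have hx1 : x = 1 ∨ x = -1 := by omega
  have hdC : (d : ℂ) ≠ 0 := by exact_mod_cast hd.ne'
  rcases hy1 with rfl | rfl <;> rcases hx1 with rfl | rfl
  · refine ⟨by norm_num, by omega, by omega, by push_cast; ring, by ring, by omega⟩
  · refine ⟨by norm_num, by omega, by omega, by push_cast; ring, by ring, by omega⟩
  · refine ⟨by norm_num, by omega, by omega, ?_, by ring, by omega⟩
    push_cast
    field_simp
  · refine ⟨by norm_num, by omega, by omega, ?_, by ring, by omega⟩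
    push_cast
    field_simp

/-- **Isaacs, Theorem 7.10.** -/
theorem order_eq [Finite G] (E : Emb G t) (hperf : commutator G = ⊤) :
    Nat.card G = 168 ∨ Nat.card G = 360 := by
  classical
  have hno := no_index_two hperf
  have := Fintype.ofFinite G
  have := Fintype.ofFinite (IrrCharacter G)
  choose n₁ n₂ hx hy using fun χ : IrrCharacter G => E.values hno (isIrr_isChar χ.2)
  set d : IrrCharacter G → ℤ := fun χ => (charDegree (χ : G → ℂ) : ℤ) with hd
  set x : IrrCharacter G → ℤ := fun χ => d χ - 4 * n₁ χ with hxdef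
  set y : IrrCharacter G → ℤ := fun χ => d χ - 2 * n₁ χ - 4 * n₂ χ with hydef
  have vd : ∀ χ : IrrCharacter G, (χ : G → ℂ) 1 = (d χ : ℂ) := by
    intro χ
    rw [isChar_one_eq (isIrr_isChar χ.2)]
    simp [hd]
  have vx : ∀ χ : IrrCharacter G, (χ : G → ℂ) t = (x χ : ℂ) := by
    intro χ
    rw [hx χ]
    simp [hxdef, hd]
  have vy : ∀ χ : IrrCharacter G, (χ : G → ℂ) E.c = (y χ : ℂ) := by
    intro χ
    rw [hy χ]
    simp [hydef, hd]
  have dpos : ∀ χ : IrrCharacter G, 0 < d χ := by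
    intro χ
    have := isIrr_charDegree_pos χ.2
    simp only [hd]
    exact_mod_cast this
  have hc1 : ¬ IsConj E.c 1 := by
    intro h
    have h1 : E.c = 1 := isConj_one_left.1 h
    have h2 := E.orderOf_c
    rw [h1, orderOf_one] at h2
    norm_num at h2
  have hot : orderOf t = 2 := orderOf_eq_prime (by rw [sq]; exact E.t_mul_t) E.t_ne_one
  have hct : ¬ IsConj E.c t := by
    intro h
    obtain ⟨g, hg⟩ := isConj_iff.1 h
    have h1 : orderOf (g * E.c * g⁻¹) = orderOf E.c :=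
      (SemiconjBy.orderOf_eq g (by simp [SemiconjBy])).symm
    rw [hg, hot, E.orderOf_c] at h1
    norm_num at h1
  have C1 : ∑ χ, y χ * y χ = 4 := by
    have h := finsum_irr_mul_conj_self E.c
    rw [finsum_eq_sum_of_fintype, E.card_cent_c] at h
    simp only [vy, map_intCast] at h
    exact_mod_cast h
  have C2 : ∑ χ, y χ * d χ = 0 := by
    have h := finsum_irr_mul_conj_of_not_isConj hc1
    rw [finsum_eq_sum_of_fintype] at h
    simp only [vy, vd, map_intCast] at h
    exact_mod_cast h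
  have C3 : ∑ χ, y χ * x χ = 0 := by
    have h := finsum_irr_mul_conj_of_not_isConj hct
    rw [finsum_eq_sum_of_fintype] at h
    simp only [vy, vx, map_intCast] at h
    exact_mod_cast h
  have C4 : ∑ χ, x χ * x χ = 8 := by
    have h := finsum_irr_mul_conj_self t
    rw [finsum_eq_sum_of_fintype, E.card_cent_t] at h
    simp only [vx, map_intCast] at h
    exact_mod_cast h
  have C5 : ∑ χ, d χ * d χ = (Nat.card G : ℤ) := by
    have h := Cfsg.Agent.S0134.result (G := G)
    rw [finsum_eq_sum_of_fintype] at h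
    simp only [vd, sq] at h
    exact_mod_cast h
  have C6 : (Nat.card G : ℂ) * ∑ χ : IrrCharacter G, (x χ : ℂ) * x χ * y χ / d χ = 256 := by
    have h := sum_sum_ite_eq t t E.c
    rw [E.count hno] at h
    simp only [vx, vy, vd, map_intCast] at h
    exact h.symm
  -- the principal character
  set τ : IrrCharacter G := trivIrr G with hτ
  have dτ : d τ = 1 := by
    have := vd τ
    rw [hτ, trivIrr_apply] at this
    exact_mod_cast this.symm
  have xτ : x τ = 1 := by
    have := vx τ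
    rw [hτ, trivIrr_apply] at this
    exact_mod_cast this.symm
  have yτ : y τ = 1 := by
    have := vy τ
    rw [hτ, trivIrr_apply] at this
    exact_mod_cast this.symm
  obtain ⟨a, b, c, h1, h2, h3, h4, h5, h6, ya, yb, yc, hrest⟩ := exists_three y τ yτ C1
  have lin : ∀ χ : IrrCharacter G, τ ≠ χ → d χ ≠ 1 := by
    intro χ hne h
    apply hne
    apply Subtype.ext
    funext g
    have h7 : (χ : G → ℂ) 1 = 1 := by rw [vd, h]; simp
    rw [hτ, trivIrr_apply]
    exact (isChar_linear_commutator (isIrr_isChar χ.2) h7 (by rw [hperf]; trivial)).symm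
  have S2 := four_sum h1 h2 h3 h4 h5 h6 (fun χ => y χ * d χ)
    (fun i a1 a2 a3 a4 => by simp only [hrest i a1 a2 a3 a4, zero_mul])
  have S3 := four_sum h1 h2 h3 h4 h5 h6 (fun χ => y χ * x χ)
    (fun i a1 a2 a3 a4 => by simp only [hrest i a1 a2 a3 a4, zero_mul])
  have S6 := four_sum h1 h2 h3 h4 h5 h6 (fun χ => (x χ : ℂ) * x χ * y χ / d χ)
    (fun i a1 a2 a3 a4 => by simp only [hrest i a1 a2 a3 a4, Int.cast_zero, mul_zero, zero_div])
  have S4 := four_le h1 h2 h3 h4 h5 h6 (fun χ => x χ * x χ) (fun i => mul_self_nonneg _)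
  have S5 := four_le h1 h2 h3 h4 h5 h6 (fun χ => d χ * d χ) (fun i => mul_self_nonneg _)
  rw [C2] at S2
  rw [C3] at S3
  rw [C4] at S4
  rw [C5] at S5
  rw [S6] at C6
  simp only [dτ, xτ, yτ] at S2 S3 S4 S5 C6
  obtain ⟨wa, ea, na, qa, sa, za⟩ := per_char (d a) (x a) (y a) (n₁ a) (n₂ a) rfl rfl ya
    (by nlinarith [mul_self_nonneg (x b), mul_self_nonneg (x c)]) (dpos a) (lin a h1)
  obtain ⟨wb, eb, nb, qb, sb, zb⟩ := per_char (d b) (x b) (y b) (n₁ b) (n₂ b) rfl rfl yb
    (by nlinarith [mul_self_nonneg (x a), mul_self_nonneg (x c)]) (dpos b) (lin b h2)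
  obtain ⟨wc, ec, nc, qc, sc, zc⟩ := per_char (d c) (x c) (y c) (n₁ c) (n₂ c) rfl rfl yc
    (by nlinarith [mul_self_nonneg (x a), mul_self_nonneg (x b)]) (dpos c) (lin c h3)
  rw [qa, qb, qc] at C6
  generalize y a * d a = A at *
  generalize y b * d b = B at *
  generalize y c * d c = C at *
  have zA : (A : ℂ) ≠ 0 := by exact_mod_cast za
  have zB : (B : ℂ) ≠ 0 := by exact_mod_cast zb
  have zC : (C : ℂ) ≠ 0 := by exact_mod_cast zc
  have hN : (Nat.card G : ℤ) * (A * B * C + B * C + A * C + A * B) = 256 * (A * B * C) := by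
    have h7 : (Nat.card G : ℂ) * (A * B * C + B * C + A * C + A * B) = 256 * (A * B * C) := by
      have h8 : (A : ℂ) * B * C + B * C + A * C + A * B =
          (((1 : ℤ) : ℂ) * ((1 : ℤ) : ℂ) * ((1 : ℤ) : ℂ) / ((1 : ℤ) : ℂ) + 1 / A + 1 / B + 1 / C) * (A * B * C) := by
        field_simp
        push_cast
        ring
      rw [h8, ← mul_assoc, C6]
    exact_mod_cast h7
  have hfin := arith_sym (Nat.card G : ℤ) A B C _ _ _ wa wb wc (by linarith) ea eb ec na nb nc
    (by linarith) hN (by rw [sa, sb, sc]; linarith)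
  rcases hfin with h | h
  · left; exact_mod_cast h
  · right; exact_mod_cast h

end Cfsg.Agent.Lib.Helper98.D8
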