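import Cfsg.Agent.Lib.Helper98.D8.Count
import Cfsg.Agent.Lib.Helper82.Basic
import Cfsg.Agent.Lib.Helper83.Basic
import Cfsg.Agent.Lib.Helper20.CharOrth

/-!
# Values of characters on the dihedral centralizer
-/

set_option autoImplicit false

namespace Cfsg.Agent.Lib.Helper98.D8

open DihedralGroup Cfsg
open scoped ComplexConjugate

/-- The unit `i`. -/
noncomputable def Iu : ℂˣ := ⟨Complex.I, -Complex.I, by simp, by simp⟩

theorem Iu_pow_four : Iu ^ 4 = 1 := by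
  apply Units.ext
  simp [Iu, Complex.I_pow_four]

/-- The faithful linear character of the cyclic group of order four. -/
noncomputable def nu : Multiplicative (ZMod 4) →* ℂˣ :=
  MonoidHom.mk' (fun k => Iu ^ (Multiplicative.toAdd k).val) (by
    intro a b
    rw [← pow_add, toAdd_mul, ZMod.val_add]
    exact (pow_eq_pow_mod _ Iu_pow_four).symm)

/-- The rotation subgroup. -/
def rHom : Multiplicative (ZMod 4) →* DihedralGroup 4 :=
  MonoidHom.mk' (fun k => r (Multiplicative.toAdd k)) (by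
    intro a b
    rw [r_mul_r, toAdd_mul])

/-- A sign character of the dihedral group. -/
def l2z : DihedralGroup 4 →* ℤˣ :=
  MonoidHom.mk' (fun g => match g with
    | r i => (-1) ^ i.val
    | sr i => (-1) ^ i.val) (by decide)

/-- The same with complex values. -/
noncomputable def l2 : DihedralGroup 4 →* ℂˣ := (Units.map (Int.castRingHom ℂ).toMonoidHom).comp l2z

theorem nu0 : ((nu (Multiplicative.ofAdd 0) : ℂˣ) : ℂ) = 1 := by
  show ((Iu ^ (0 : ZMod 4).val : ℂˣ) : ℂ) = 1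
  simp

theorem nu1 : ((nu (Multiplicative.ofAdd 1) : ℂˣ) : ℂ) = Complex.I := by
  show ((Iu ^ (1 : ZMod 4).val : ℂˣ) : ℂ) = Complex.I
  have : (1 : ZMod 4).val = 1 := rfl
  rw [this]; simp [Iu]

theorem nu2 : ((nu (Multiplicative.ofAdd 2) : ℂˣ) : ℂ) = -1 := by
  show ((Iu ^ (2 : ZMod 4).val : ℂˣ) : ℂ) = -1
  have : (2 : ZMod 4).val = 2 := rfl
  rw [this]; simp [Iu]

theorem nu3 : ((nu (Multiplicative.ofAdd 3) : ℂˣ) : ℂ) = -Complex.I := by
  show ((Iu ^ (3 : ZMod 4).val : ℂˣ) : ℂ) = -Complex.I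
  have : (3 : ZMod 4).val = 3 := rfl
  rw [this]; simp [Iu, pow_succ]

theorem l2_val (g : DihedralGroup 4) : ((l2 g : ℂˣ) : ℂ) = (((l2z g : ℤˣ) : ℤ) : ℂ) := rfl

variable {G : Type*} [Group G] {t : G}

theorem Emb.values [Finite G] (E : Emb G t) (hno : ∀ M : Subgroup G, M.Normal → M.index ≠ 2)
    {χ : G → ℂ} (hχ : IsCharacter G χ) :
    ∃ n₁ n₂ : ℕ, χ t = (charDegree χ : ℂ) - 4 * n₁ ∧
      χ E.c = (charDegree χ : ℂ) - 2 * n₁ - 4 * n₂ := by
  have h1 : χ 1 = (charDegree χ : ℂ) := Cfsg.Agent.Lib.Helper82.isChar_one_eq hχ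
  have hci : χ E.c⁻¹ = χ E.c :=
    (Cfsg.Agent.Lib.Helper82.isChar_eq_of_isConj hχ E.isConj_c_inv).symm
  have hsr : ∀ i, χ (E.φ (sr i)) = χ t := fun i =>
    (Cfsg.Agent.Lib.Helper82.isChar_eq_of_isConj hχ (E.isConj_sr hno i)).symm
  have hr0 : E.φ (r 0) = 1 := map_one E.φ
  have hr1 : E.φ (r 1) = E.c := rfl
  have hr3 : E.φ (r 3) = E.c⁻¹ := by
    have : (r 3 : DihedralGroup 4) = (r 1)⁻¹ := by decide
    rw [this, map_inv]; rfl
  -- the cyclic group of order four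
  obtain ⟨n₁, hn₁⟩ := Cfsg.Agent.Lib.Helper20.isCharacter_classInner_nat
    (Cfsg.Agent.Lib.Helper82.isChar_comp_hom hχ (E.φ.comp rHom))
    (Cfsg.Agent.Lib.Helper83.isIrr_of_hom nu)
  obtain ⟨n₂, hn₂⟩ := Cfsg.Agent.Lib.Helper20.isCharacter_classInner_nat
    (Cfsg.Agent.Lib.Helper82.isChar_comp_hom hχ E.φ)
    (Cfsg.Agent.Lib.Helper83.isIrr_of_hom l2)
  unfold classInner at hn₁ hn₂
  rw [z4_sum] at hn₁
  rw [d4_sum] at hn₂
  beta_reduce at hn₁ hn₂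
  have c4 : Nat.card (Multiplicative (ZMod 4)) = 4 := by simp
  have c8 : Nat.card (DihedralGroup 4) = 8 := by rw [DihedralGroup.nat_card]
  rw [c4, nu0, nu1, nu2, nu3] at hn₁
  rw [c8] at hn₂
  simp only [l2_val] at hn₂
  have e0 : ((l2z (r 0) : ℤˣ) : ℤ) = 1 := by decide
  have e1 : ((l2z (r 1) : ℤˣ) : ℤ) = -1 := by decide
  have e2 : ((l2z (r 2) : ℤˣ) : ℤ) = 1 := by decide
  have e3 : ((l2z (r 3) : ℤˣ) : ℤ) = -1 := by decide
  have f0 : ((l2z (sr 0) : ℤˣ) : ℤ) = 1 := by decide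
  have f1 : ((l2z (sr 1) : ℤˣ) : ℤ) = -1 := by decide
  have f2 : ((l2z (sr 2) : ℤˣ) : ℤ) = 1 := by decide
  have f3 : ((l2z (sr 3) : ℤˣ) : ℤ) = -1 := by decide
  rw [e0, e1, e2, e3, f0, f1, f2, f3, hsr, hsr, hsr, hsr, hr0, hr1, hr3, E.two, hci, h1] at hn₂
  have g0 : (E.φ.comp rHom) (Multiplicative.ofAdd 0) = 1 := hr0
  have g1 : (E.φ.comp rHom) (Multiplicative.ofAdd 1) = E.c := rfl
  have g2 : (E.φ.comp rHom) (Multiplicative.ofAdd 2) = t := E.two
  have g3 : (E.φ.comp rHom) (Multiplicative.ofAdd 3) = E.c⁻¹ := hr3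
  rw [g0, g1, g2, g3, hci, h1] at hn₁
  simp only [map_one, map_neg, Complex.conj_I, Int.cast_one, Int.cast_neg] at hn₁ hn₂
  refine ⟨n₁, n₂, ?_, ?_⟩
  · have : (charDegree χ : ℂ) - χ t = 4 * n₁ := by
      rw [← hn₁]; push_cast; ring
    linear_combination (-1 : ℂ) * this
  · have a1 : (charDegree χ : ℂ) - χ t = 4 * n₁ := by
      rw [← hn₁]; push_cast; ring
    have a2 : (charDegree χ : ℂ) + χ t - 2 * χ E.c = 8 * n₂ := by
      rw [← hn₂]; push_cast; ring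
    linear_combination (-1 / 2 : ℂ) * a2 - (1 / 2 : ℂ) * a1

end Cfsg.Agent.Lib.Helper98.D8
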