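import Cfsg.Agent.Lib.Helper98.D8.Group

/-!
# Counting the ways of writing `c` as a product of two conjugates of `t`
-/

set_option autoImplicit false

namespace Cfsg.Agent.Lib.Helper98.D8

open DihedralGroup

variable {G : Type*} [Group G] {t : G}

theorem d4_inv_pair (δ : DihedralGroup 4) (h1 : δ * δ = 1) (h2 : (δ⁻¹ * r 1) * (δ⁻¹ * r 1) = 1) :
    ∃ i, δ = sr i := by
  revert δ; decide

namespace Emb

variable (E : Emb G t)

include E

theorem t_mul_t : t * t = 1 := by
  have h : (r 2 * r 2 : DihedralGroup 4) = 1 := by decide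
  have := congrArg E.φ h
  rwa [map_mul, map_one, E.two] at this

theorem card_fiber [Fintype G] [DecidableEq G] {w : G} (hw : IsConj t w) :
    (Finset.univ.filter (fun b : G => b * t * b⁻¹ = w)).card = 8 := by
  obtain ⟨g, hg⟩ := isConj_iff.1 hw
  have h8 : (Finset.univ : Finset (DihedralGroup 4)).card = 8 := by
    rw [Finset.card_univ, DihedralGroup.card]
  rw [← h8]
  symm
  apply Finset.card_bij (fun δ _ => g * E.φ δ)
  · intro δ _
    rw [Finset.mem_filter]
    refine ⟨Finset.mem_univ _, ?_⟩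
    rw [mul_inv_rev, ← hg]
    have := E.comm_t δ
    calc g * E.φ δ * t * ((E.φ δ)⁻¹ * g⁻¹) = g * (E.φ δ * t * (E.φ δ)⁻¹) * g⁻¹ := by group
      _ = g * t * g⁻¹ := by rw [this, mul_inv_cancel_right]
  · intro a _ b _ h
    exact E.inj (mul_left_cancel h)
  · intro b hb
    rw [Finset.mem_filter] at hb
    have h1 : g⁻¹ * b ∈ Subgroup.centralizer ({t} : Set G) := by
      rw [Subgroup.mem_centralizer_singleton_iff]
      have h2 : b * t * b⁻¹ = g * t * g⁻¹ := hb.2.trans hg.symm
      have h3 : b * t = g * t * g⁻¹ * b := by rw [← h2]; group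
      calc g⁻¹ * b * t = g⁻¹ * (b * t) := by group
        _ = g⁻¹ * (g * t * g⁻¹ * b) := by rw [h3]
        _ = t * (g⁻¹ * b) := by group
    obtain ⟨δ, hδ⟩ := (E.range _).1 h1
    exact ⟨δ, Finset.mem_univ _, by rw [hδ]; group⟩

open Classical in
theorem sum_fiber [Fintype G] (w : G) :
    ∑ b : G, (if b * t * b⁻¹ = w then (1 : ℂ) else 0) = if IsConj t w then 8 else 0 := by
  split_ifs with h
  · rw [Finset.sum_boole, E.card_fiber h]; norm_num
  · apply Finset.sum_eq_zero
    intro b _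
    rw [if_neg]
    intro hb
    exact h (isConj_iff.2 ⟨b, hb⟩)

theorem conj_iff [Finite G] (hno : ∀ M : Subgroup G, M.Normal → M.index ≠ 2) (a : G) :
    IsConj t ((a * t * a⁻¹)⁻¹ * E.c) ↔ ∃ i, a * t * a⁻¹ = E.φ (sr i) := by
  set u := a * t * a⁻¹ with hu
  have huu : u * u = 1 := by
    rw [hu]
    calc a * t * a⁻¹ * (a * t * a⁻¹) = a * (t * t) * a⁻¹ := by group
      _ = 1 := by rw [E.t_mul_t]; group
  have hui : u⁻¹ = u := inv_eq_of_mul_eq_one_left huu
  constructor
  · intro h
    obtain ⟨g, hg⟩ := isConj_iff.1 h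
    have hvv : (u⁻¹ * E.c) * (u⁻¹ * E.c) = 1 := by
      rw [← hg]
      calc g * t * g⁻¹ * (g * t * g⁻¹) = g * (t * t) * g⁻¹ := by group
        _ = 1 := by rw [E.t_mul_t]; group
    rw [hui] at hvv
    -- `u c u = c⁻¹`
    have h1 : u * E.c * u = E.c⁻¹ := by
      apply eq_inv_of_mul_eq_one_left
      rw [← hvv]; group
    have h2 : u ∈ Subgroup.centralizer ({t} : Set G) := by
      rw [Subgroup.mem_centralizer_singleton_iff]
      have h3 : u * t * u = t := by
        have h4 : u * t * u = (u * E.c * u) * (u * E.c * u) := by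
          calc u * t * u = u * (E.c * E.c) * u := by rw [E.c_mul_c]
            _ = u * E.c * 1 * E.c * u := by group
            _ = u * E.c * (u * u) * E.c * u := by rw [huu]
            _ = _ := by group
        rw [h4, h1, ← mul_inv_rev, E.c_mul_c]
        exact inv_eq_of_mul_eq_one_left E.t_mul_t
      calc u * t = u * t * (u * u) := by rw [huu, mul_one]
        _ = (u * t * u) * u := by group
        _ = t * u := by rw [h3]
    obtain ⟨δ, hδ⟩ := (E.range _).1 h2
    have hd1 : δ * δ = 1 := by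
      apply E.inj
      rw [map_mul, map_one, hδ, huu]
    have hd2 : (δ⁻¹ * r 1) * (δ⁻¹ * r 1) = 1 := by
      apply E.inj
      rw [map_mul, map_mul, map_inv, map_one, hδ, hui]
      exact hvv
    obtain ⟨i, rfl⟩ := d4_inv_pair δ hd1 hd2
    exact ⟨i, hδ.symm⟩
  · rintro ⟨i, hi⟩
    rw [hi]
    have : (E.φ (sr i))⁻¹ * E.c = E.φ (sr (i + 1)) := by
      unfold c
      rw [← map_inv, ← map_mul]
      rfl
    rw [this]
    exact E.isConj_sr hno _

open Classical in
/-- The structure constant. -/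
theorem count [Fintype G] (hno : ∀ M : Subgroup G, M.Normal → M.index ≠ 2) :
    ∑ a : G, ∑ b : G, (if a * t * a⁻¹ * (b * t * b⁻¹) = E.c then (1 : ℂ) else 0) = 256 := by
  have h1 : ∀ a : G, ∑ b : G, (if a * t * a⁻¹ * (b * t * b⁻¹) = E.c then (1 : ℂ) else 0) =
      ∑ i : ZMod 4, (if a * t * a⁻¹ = E.φ (sr i) then (8 : ℂ) else 0) := by
    intro a
    have h2 : ∀ b : G, (a * t * a⁻¹ * (b * t * b⁻¹) = E.c) ↔
        (b * t * b⁻¹ = (a * t * a⁻¹)⁻¹ * E.c) := by
      intro b
      rw [eq_inv_mul_iff_mul_eq]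
    simp only [h2]
    rw [E.sum_fiber]
    by_cases h : ∃ i, a * t * a⁻¹ = E.φ (sr i)
    · rw [if_pos ((E.conj_iff hno a).2 h)]
      obtain ⟨i, hi⟩ := h
      rw [hi]
      have h3 : ∀ j : ZMod 4, (E.φ (sr i) = E.φ (sr j)) ↔ i = j := by
        intro j
        constructor
        · intro h; exact sr.inj (E.inj h)
        · intro h; rw [h]
      simp only [h3]
      rw [Finset.sum_ite_eq, if_pos (Finset.mem_univ _)]
    · rw [if_neg (fun h' => h ((E.conj_iff hno a).1 h'))]
      symm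
      apply Finset.sum_eq_zero
      intro i _
      rw [if_neg (fun h' => h ⟨i, h'⟩)]
  simp only [h1]
  rw [Finset.sum_comm]
  have h4 : ∀ i : ZMod 4, ∑ a : G, (if a * t * a⁻¹ = E.φ (sr i) then (8 : ℂ) else 0) = 64 := by
    intro i
    have h5 : ∀ a : G, (if a * t * a⁻¹ = E.φ (sr i) then (8 : ℂ) else 0) =
        8 * (if a * t * a⁻¹ = E.φ (sr i) then (1 : ℂ) else 0) := by
      intro a; split_ifs <;> simp
    simp only [h5]
    rw [← Finset.mul_sum, E.sum_fiber, if_pos (E.isConj_sr hno i)]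
    norm_num
  simp only [h4]
  simp
  norm_num

end Emb

end Cfsg.Agent.Lib.Helper98.D8
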