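import Mathlib
import Cfsg.Agent.S0111

/-!
# Groups with an involution whose centralizer is dihedral of order 8: group theory
-/

set_option autoImplicit false

namespace Cfsg.Agent.Lib.Helper98.D8

open DihedralGroup

theorem d4_univ : (Finset.univ : Finset (DihedralGroup 4)) =
    {r 0, r 1, r 2, r 3, sr 0, sr 1, sr 2, sr 3} := by decide

theorem d4_sum {M : Type*} [AddCommMonoid M] (F : DihedralGroup 4 → M) :
    ∑ g : DihedralGroup 4, F g =
      F (r 0) + F (r 1) + F (r 2) + F (r 3) + F (sr 0) + F (sr 1) + F (sr 2) + F (sr 3) := by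
  rw [d4_univ]
  rw [Finset.sum_insert (by decide), Finset.sum_insert (by decide), Finset.sum_insert (by decide),
    Finset.sum_insert (by decide), Finset.sum_insert (by decide), Finset.sum_insert (by decide),
    Finset.sum_insert (by decide), Finset.sum_singleton]
  simp only [add_assoc]

theorem d4_center (z : DihedralGroup 4) (h : ∀ g, g * z = z * g) : z = 1 ∨ z = r 2 := by
  revert z; decide

theorem d4_comm_r (z : DihedralGroup 4) (h : z * r 1 = r 1 * z) : ∃ i, z = r i := by
  revert z; decide

theorem d4_r_inv (j : ZMod 4) (h1 : (r j : DihedralGroup 4) ≠ 1) (h2 : (r j : DihedralGroup 4) * r j = 1) :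
    j = 2 := by
  revert j; decide

theorem z4_sum {M : Type*} [AddCommMonoid M] (F : Multiplicative (ZMod 4) → M) :
    ∑ g : Multiplicative (ZMod 4), F g =
      F (Multiplicative.ofAdd 0) + F (Multiplicative.ofAdd 1) + F (Multiplicative.ofAdd 2) +
        F (Multiplicative.ofAdd 3) :=
  Fin.sum_univ_four (fun i : Fin 4 => F (Multiplicative.ofAdd (i : ZMod 4)))

/-- An identification of the centralizer of `t` with the dihedral group of order 8. -/
structure Emb (G : Type*) [Group G] (t : G) where
  φ : DihedralGroup 4 →* G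
  inj : Function.Injective φ
  range : ∀ g, g ∈ Subgroup.centralizer ({t} : Set G) ↔ ∃ δ, φ δ = g
  two : φ (r 2) = t

variable {G : Type*} [Group G] {t : G}

/-- Construction of the data from an isomorphism. -/
noncomputable def Emb.ofEquiv (ht : t ≠ 1)
    (e : Subgroup.centralizer ({t} : Set G) ≃* DihedralGroup 4) : Emb G t where
  φ := (Subgroup.centralizer ({t} : Set G)).subtype.comp e.symm.toMonoidHom
  inj := by
    intro a b h
    have h1 : (e.symm a : G) = e.symm b := h
    exact e.symm.injective (Subtype.ext h1)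
  range := by
    intro g
    constructor
    · intro hg
      exact ⟨e ⟨g, hg⟩, by simp⟩
    · rintro ⟨δ, rfl⟩
      exact (e.symm δ).2
  two := by
    have htm : t ∈ Subgroup.centralizer ({t} : Set G) :=
      Subgroup.mem_centralizer_singleton_iff.2 rfl
    have hc : ∀ g, g * e ⟨t, htm⟩ = e ⟨t, htm⟩ * g := by
      intro g
      apply e.symm.injective
      rw [map_mul, map_mul, MulEquiv.symm_apply_apply]
      apply Subtype.ext
      have := (e.symm g).2
      rw [Subgroup.mem_centralizer_singleton_iff] at this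
      exact this
    rcases d4_center _ hc with h | h
    · exfalso
      apply ht
      have h2 : (⟨t, htm⟩ : Subgroup.centralizer ({t} : Set G)) = 1 := by
        apply e.injective; rw [h, map_one]
      exact congrArg Subtype.val h2
    · show ((e.symm (r 2) : Subgroup.centralizer ({t} : Set G)) : G) = t
      rw [← h, MulEquiv.symm_apply_apply]

namespace Emb

variable (E : Emb G t)

include E

/-- The element of order four. -/
def c : G := E.φ (r 1)

theorem c_mul_c : E.c * E.c = t := by
  unfold c
  have h : (r 1 * r 1 : DihedralGroup 4) = r 2 := by decide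
  rw [← map_mul, h]
  exact E.two

theorem mem_cent (δ : DihedralGroup 4) : E.φ δ ∈ Subgroup.centralizer ({t} : Set G) :=
  (E.range _).2 ⟨δ, rfl⟩

theorem comm_t (δ : DihedralGroup 4) : E.φ δ * t = t * E.φ δ :=
  Subgroup.mem_centralizer_singleton_iff.1 (E.mem_cent δ)

theorem orderOf_c : orderOf E.c = 4 := by
  unfold c
  rw [orderOf_injective E.φ E.inj, DihedralGroup.orderOf_r_one]

theorem orderOf_sr (i : ZMod 4) : orderOf (E.φ (sr i)) = 2 := by
  rw [orderOf_injective E.φ E.inj, DihedralGroup.orderOf_sr]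

theorem t_ne_one : t ≠ 1 := by
  intro h
  have := E.inj ((E.two.trans h).trans (map_one E.φ).symm)
  revert this
  decide

theorem mem_cent_c (g : G) : g ∈ Subgroup.centralizer ({E.c} : Set G) ↔ ∃ i, E.φ (r i) = g := by
  constructor
  · intro hg
    rw [Subgroup.mem_centralizer_singleton_iff] at hg
    have h1 : g ∈ Subgroup.centralizer ({t} : Set G) := by
      rw [Subgroup.mem_centralizer_singleton_iff, ← E.c_mul_c, ← mul_assoc, hg, mul_assoc, hg,
        mul_assoc]
    obtain ⟨δ, rfl⟩ := (E.range g).1 h1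
    have h2 : δ * r 1 = r 1 * δ := by
      apply E.inj
      rw [map_mul, map_mul]
      exact hg
    obtain ⟨i, rfl⟩ := d4_comm_r δ h2
    exact ⟨i, rfl⟩
  · rintro ⟨i, rfl⟩
    rw [Subgroup.mem_centralizer_singleton_iff]
    unfold c
    rw [← map_mul, ← map_mul, r_mul_r, r_mul_r, add_comm]

theorem card_cent_c : Nat.card (Subgroup.centralizer ({E.c} : Set G)) = 4 := by
  have e : ZMod 4 ≃ Subgroup.centralizer ({E.c} : Set G) :=
    Equiv.ofBijective (fun i => ⟨E.φ (r i), (E.mem_cent_c _).2 ⟨i, rfl⟩⟩) (by
      constructor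
      · intro i j h
        have h1 : E.φ (r i) = E.φ (r j) := congrArg Subtype.val h
        have h2 := E.inj h1
        exact r.inj h2
      · rintro ⟨g, hg⟩
        obtain ⟨i, rfl⟩ := (E.mem_cent_c g).1 hg
        exact ⟨i, rfl⟩)
  rw [← Nat.card_congr e]
  simp

theorem card_cent_t : Nat.card (Subgroup.centralizer ({t} : Set G)) = 8 := by
  have e : DihedralGroup 4 ≃ Subgroup.centralizer ({t} : Set G) :=
    Equiv.ofBijective (fun δ => ⟨E.φ δ, E.mem_cent δ⟩) (by
      constructor
      · intro i j h
        exact E.inj (congrArg Subtype.val h)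
      · rintro ⟨g, hg⟩
        obtain ⟨i, rfl⟩ := (E.range g).1 hg
        exact ⟨i, rfl⟩)
  rw [← Nat.card_congr e, DihedralGroup.nat_card]

theorem isConj_c_inv : IsConj E.c E.c⁻¹ := by
  rw [isConj_iff]
  refine ⟨E.φ (sr 0), ?_⟩
  unfold c
  rw [← map_inv, ← map_inv, ← map_mul, ← map_mul]
  rfl

/-- A central element of the centralizer is `1` or `t`. -/
theorem central_eq {z : G} (hz : z ∈ Subgroup.centralizer ({t} : Set G))
    (h : ∀ g ∈ Subgroup.centralizer ({t} : Set G), g * z = z * g) : z = 1 ∨ z = t := by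
  obtain ⟨ζ, rfl⟩ := (E.range z).1 hz
  have h1 : ∀ g, g * ζ = ζ * g := by
    intro g
    apply E.inj
    rw [map_mul, map_mul]
    exact h _ (E.mem_cent g)
  rcases d4_center ζ h1 with h2 | h2
  · left; rw [h2, map_one]
  · right; rw [h2, E.two]

/-- The centralizer is a Sylow 2-subgroup. -/
theorem exists_sylow [Finite G] :
    ∃ P : Sylow 2 G, (P : Subgroup G) = Subgroup.centralizer ({t} : Set G) := by
  have : Fact (Nat.Prime 2) := ⟨Nat.prime_two⟩
  have hp : IsPGroup 2 (Subgroup.centralizer ({t} : Set G)) :=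
    IsPGroup.of_card (n := 3) (by rw [E.card_cent_t]; norm_num)
  obtain ⟨P, hP⟩ := hp.exists_le_sylow
  refine ⟨P, le_antisymm ?_ hP⟩
  have htm : t ∈ Subgroup.centralizer ({t} : Set G) :=
    Subgroup.mem_centralizer_singleton_iff.2 rfl
  have : Nontrivial (P : Subgroup G) := ⟨⟨⟨t, hP htm⟩, 1, fun h => E.t_ne_one (congrArg Subtype.val h)⟩⟩
  have := P.isPGroup'.center_nontrivial
  obtain ⟨⟨z, hz⟩, hz1⟩ := exists_ne (1 : Subgroup.center (P : Subgroup G))
  have hzc : ∀ g (hg : g ∈ (P : Subgroup G)), g * (z : G) = z * g := by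
    intro g hg
    have := Subgroup.mem_center_iff.1 hz ⟨g, hg⟩
    exact congrArg Subtype.val this
  have hzt : (z : G) ∈ Subgroup.centralizer ({t} : Set G) := by
    rw [Subgroup.mem_centralizer_singleton_iff]
    exact (hzc t (hP htm)).symm
  rcases E.central_eq hzt (fun g hg => hzc g (hP hg)) with h | h
  · exfalso
    apply hz1
    apply Subtype.ext
    apply Subtype.ext
    exact h
  · intro g hg
    rw [Subgroup.mem_centralizer_singleton_iff, ← h]
    exact hzc g hg

/-- Fusion: every non-central involution of the centralizer is conjugate to `t`, provided that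
`G` has no normal subgroup of index two. -/
theorem isConj_sr [Finite G] (hno : ∀ M : Subgroup G, M.Normal → M.index ≠ 2) (i : ZMod 4) :
    IsConj t (E.φ (sr i)) := by
  obtain ⟨P, hP⟩ := E.exists_sylow
  have hQP : Subgroup.centralizer ({E.c} : Set G) ≤ (P : Subgroup G) := by
    rw [hP]
    intro g hg
    obtain ⟨j, rfl⟩ := (E.mem_cent_c g).1 hg
    exact E.mem_cent _
  have hQi : (Subgroup.centralizer ({E.c} : Set G)).relIndex (P : Subgroup G) = 2 := by
    have h1 := Subgroup.card_mul_index
      ((Subgroup.centralizer ({E.c} : Set G)).subgroupOf (P : Subgroup G))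
    have hcP : Nat.card (P : Subgroup G) = 8 := by rw [hP]; exact E.card_cent_t
    rw [Nat.card_congr (Subgroup.subgroupOfEquivOfLe hQP).toEquiv, E.card_cent_c, hcP] at h1
    unfold Subgroup.relIndex
    omega
  have huQ : E.φ (sr i) ∉ Subgroup.centralizer ({E.c} : Set G) := by
    intro h
    obtain ⟨j, hj⟩ := (E.mem_cent_c _).1 h
    have := E.inj hj
    cases this
  rcases Cfsg.Agent.S0111.result P _ hQP hQi (E.φ (sr i)) (E.orderOf_sr i)
    (by rw [hP]; exact E.mem_cent _) huQ with ⟨M, hM, hM2, -⟩ | ⟨g, hg⟩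
  · exact absurd hM2 (hno M hM)
  · obtain ⟨j, hj⟩ := (E.mem_cent_c _).1 hg
    have ho : orderOf (g * E.φ (sr i) * g⁻¹) = 2 := by
      rw [← E.orderOf_sr i]
      exact (SemiconjBy.orderOf_eq g (by simp [SemiconjBy])).symm
    have hj2 : j = 2 := by
      apply d4_r_inv
      · intro h
        rw [h, map_one] at hj
        rw [← hj, orderOf_one] at ho
        norm_num at ho
      · apply E.inj
        rw [map_mul, map_one, hj, ← sq, ← ho, pow_orderOf_eq_one]
    rw [hj2, E.two] at hj
    rw [isConj_comm, isConj_iff]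
    exact ⟨g, hj.symm⟩

end Emb

end Cfsg.Agent.Lib.Helper98.D8
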